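import Groth.Agent.CycEtaleLib.Main

/-!
# Charts of the normalised cyclic cover
-/

set_option autoImplicit false
set_option backward.isDefEq.respectTransparency false
set_option linter.style.haveILetI false

universe u

open CategoryTheory CategoryTheory.Limits AlgebraicGeometry TopologicalSpace Opposite Polynomial CycEtaleLib

noncomputable section

namespace CycStrLib

variable {X Y : Scheme.{u}}

theorem isReduced_cover {L : X.Modules} {N : ℕ} {s : Coh.structureModule X ⟶ CohB1.tensorPow L N} {π : Y ⟶ X}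
    {R : CycCov.Root L N s π} (hR : CycCov.IsCover R) : AlgebraicGeometry.IsReduced Y := by
  haveI : ∀ y : Y, _root_.IsReduced (Y.presheaf.stalk y) := fun y => by
    haveI := (hR.2.1 y).1
    infer_instance
  exact isReduced_of_isReduced_stalk Y

theorem genN_bijective {L : X.Modules} {U : X.Opens} {e : Γ(L, U)} (hge : AmpleLib.GenOn L e) (N : ℕ) :
    Function.Bijective fun b : Γ(X, U) => b • (show (CohB1.tensorPow L N).val.obj (op U) from
      CycCov.lpow L U e N) := by
  rw [lpow_eq_pS]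
  exact isGen_of_genOn (AmpleThLib.pS_genOn hge N)

/-- A non-zero function of the base is a nonzerodivisor on the cover. -/
theorem app_regular [IsIntegral X] {L : X.Modules} {N : ℕ} (hN : 0 < N)
    {s : Coh.structureModule X ⟶ CohB1.tensorPow L N} {π : Y ⟶ X}
    {R : CycCov.Root L N s π} (hR : CycCov.IsCover R) (U : X.Opens) (hU : IsAffineOpen U) (e : Γ(L, U))
    (hge : AmpleLib.GenOn L e) (c : Γ(X, U)) (hc : SecTwist.val s U = c • CycCov.lpow L U e N)
    (g : Γ(X, U)) (hg0 : g ≠ 0) : ∀ b : Γ(Y, π ⁻¹ᵁ U), π.app U g * b = 0 → b = 0 := by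
  haveI := isReduced_cover hR
  obtain ⟨hfin, hYn, W₀, hW₀, hW₀Y, hchart⟩ := hR
  replace hc : c • (show (CohB1.tensorPow L N).val.obj (op U) from CycCov.lpow L U e N) = SecTwist.val s U := hc.symm
  intro b hb
  have hzero : ∀ (V : X.Opens), IsAffineOpen V → V ≤ U → V ≤ W₀ → ∀ hle : π ⁻¹ᵁ V ≤ π ⁻¹ᵁ U,
      Y.presheaf.map (homOfLE hle).op b = 0 := by
    intro V hV hVU hVW₀ hle
    rcases isEmpty_or_nonempty V with hempty | hne
    · haveI : Subsingleton Γ(Y, π ⁻¹ᵁ V) := by
        have : π ⁻¹ᵁ V = ⊥ := by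
          refine le_bot_iff.mp fun y hy => ?_
          exact (hempty.false ⟨π y, hy⟩).elim
        rw [this]
        infer_instance
      exact Subsingleton.elim _ _
    let eV : L.val.obj (op V) := L.val.map (homOfLE hVU).op e
    have hGV : CycCov.IsGen L V eV := isGen_of_genOn (hge.res hVU)
    let cV : Γ(X, V) := X.presheaf.map (homOfLE hVU).op c
    have hcV : SecTwist.val s V = cV • CycCov.lpow L V eV N := by
      have h := congrArg (AmpleLib.res (CohB1.tensorPow L N) hVU) hc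
      rw [show SecTwist.val s V = AmpleLib.res (CohB1.tensorPow L N) hVU
        (SecTwist.val s U) from (SecTwist.map_val s (homOfLE hVU)).symm, ← h]
      rw [lpow_eq_pS, lpow_eq_pS]
      erw [AmpleLib.res_smul]
      congr 1
      exact AmpleThLib.pS_res _ _ _
    have hbij := hchart ⟨V, hV⟩ hVW₀ eV hGV cV hcV
    obtain ⟨z, hz⟩ := hbij.2 (Y.presheaf.map (homOfLE hle).op b)
    have h1 := congrArg (Y.presheaf.map (homOfLE hle).op) hb
    rw [map_mul, map_zero, show Y.presheaf.map (homOfLE hle).op (π.app U g) =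
      π.app V (X.presheaf.map (homOfLE hVU).op g) from
        (ConcreteCategory.congr_hom (π.naturality (homOfLE hVU).op) g).symm, ← hz] at h1
    let gV : Γ(X, V) := X.presheaf.map (homOfLE hVU).op g
    have h2 : algebraMap Γ(X, V) (AdjoinRoot (Polynomial.X ^ N - Polynomial.C cV)) gV * z = 0 := hbij.1 (by
      rw [map_mul, map_zero, AdjoinRoot.algebraMap_eq]
      simp only [CycCov.chart, AdjoinRoot.lift_of]
      exact h1)
    haveI : Module.Free Γ(X, V) (AdjoinRoot (Polynomial.X ^ N - Polynomial.C cV)) :=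
      (monic_X_pow_sub_C cV hN.ne').free_adjoinRoot
    have hgV : gV ≠ 0 := fun h0 => hg0 (map_injective_of_isIntegral X (homOfLE hVU) (h0.trans (map_zero _).symm))
    rw [← Algebra.smul_def] at h2
    rcases smul_eq_zero.mp h2 with h0 | h0
    · exact absurd h0 hgV
    · rw [← hz, h0, map_zero]
  refine (basicOpen_eq_bot_iff b).mp (le_bot_iff.mp fun y hy => ?_)
  exfalso
  obtain ⟨y', hy', hy'W⟩ := hW₀Y.inter_open_nonempty (Y.basicOpen b : Set Y) (Y.basicOpen b).isOpen ⟨y, hy⟩
  obtain ⟨V, hV, hyV, hVle⟩ := exists_isAffineOpen_mem_and_subset (U := U ⊓ W₀) (x := π y')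
    ⟨Y.basicOpen_le b hy', hy'W⟩
  have hle : π ⁻¹ᵁ V ≤ π ⁻¹ᵁ U := π.preimage_mono (le_trans hVle inf_le_left)
  have h0 := hzero V hV (le_trans hVle inf_le_left) (le_trans hVle inf_le_right) hle
  have hmem : y' ∈ Y.basicOpen (Y.presheaf.map (homOfLE hle).op b) := by
    erw [Scheme.basicOpen_res]
    exact ⟨hyV, hy'⟩
  rw [h0, Scheme.basicOpen_zero] at hmem
  exact hmem

/-- Away from the branch divisor the chart is bijective. -/
theorem chart_bijective {k : Type u} [Field k] (f : X ⟶ Spec (CommRingCat.of k)) [Smooth f] [IsIntegral X]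
    (L : X.Modules) (N : ℕ) (hN : 0 < N) (hNk : (N : k) ≠ 0) (I : X.IdealSheafData)
    (s : Coh.structureModule X ⟶ CohB1.tensorPow L N) (hs : CycCov.IsZeroDiv (CohB1.tensorPow L N) s I)
    (π : Y ⟶ X) (R : CycCov.Root L N s π) (hR : CycCov.IsCover R)
    (U : X.Opens) (hU : IsAffineOpen U) [Nonempty U] (e : Γ(L, U)) (hge : AmpleLib.GenOn L e)
    (c : Γ(X, U)) (hc0 : SecTwist.val s U = c • CycCov.lpow L U e N) (htop : I.ideal ⟨U, hU⟩ = ⊤) :
    Function.Bijective (CycCov.chart R ⟨U, hU⟩ e (isGen_of_genOn hge) c hc0) := by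
  haveI := isReduced_cover hR
  have hbad0 := app_regular hN hR U hU e hge c hc0
  obtain ⟨hfin, hYn, W₀, hW₀, hW₀Y, hchart⟩ := hR
  haveI : IsFinite π := hfin
  have hc : c • (show (CohB1.tensorPow L N).val.obj (op U) from CycCov.lpow L U e N) = SecTwist.val s U := hc0.symm
  have hGen : CycCov.IsGen L U e := isGen_of_genOn hge
  have hGenN := genN_bijective hge N
  obtain ⟨x⟩ := (inferInstance : Nonempty U)
  have hcu : IsUnit c := by
    have h := hs ⟨U, hU⟩
    rw [htop, Submodule.top_smul] at h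
    obtain ⟨a, ha⟩ := Submodule.mem_span_singleton.mp (h ▸ Submodule.mem_top :
      (show (CohB1.tensorPow L N).val.obj (op U) from CycCov.lpow L U e N) ∈
        Submodule.span Γ(X, U) {SecTwist.val s U})
    refine IsUnit.of_mul_eq_one a (hGenN.1 ?_)
    show (c * a) • (show (CohB1.tensorPow L N).val.obj (op U) from CycCov.lpow L U e N) =
      (1 : Γ(X, U)) • (show (CohB1.tensorPow L N).val.obj (op U) from CycCov.lpow L U e N)
    rw [mul_comm, mul_smul, one_smul]
    exact (congrArg (a • ·) hc).trans ha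
  let ψ := CycCov.chart R ⟨U, hU⟩ e hGen c hc.symm
  let p : Γ(X, U)[X] := Polynomial.X ^ N - Polynomial.C c
  have hpm : p.Monic := monic_X_pow_sub_C c hN.ne'
  have hNu : IsUnit (N : Γ(X, U)) := by
    have h := (IsUnit.mk0 (N : k) hNk).map
      (((Scheme.ΓSpecIso (CommRingCat.of k)).inv ≫ f.appLE ⊤ U le_top).hom)
    rwa [map_natCast] at h
  have hpsep : p.Separable := by
    obtain ⟨cu, rfl⟩ := hcu
    exact separable_X_pow_sub_C_unit cu hNu
  haveI : Algebra.Etale Γ(X, U) (AdjoinRoot p) := Groth.Agent.EtShLib.etale_adjoinRoot_separable hpm hpsep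
  let alg : Algebra k Γ(X, U) := (((Scheme.ΓSpecIso (CommRingCat.of k)).inv ≫ f.appLE ⊤ U le_top).hom).toAlgebra
  haveI : Algebra.Smooth k Γ(X, U) := by
    rw [← RingHom.smooth_algebraMap]
    have h := HasRingHomProperty.appLE @Smooth f inferInstance ⟨⊤, isAffineOpen_top _⟩ ⟨U, hU⟩ le_top
    exact RingHom.Smooth.comp (RingHom.Smooth.of_bijective
      (ConcreteCategory.bijective_of_isIso (Scheme.ΓSpecIso (CommRingCat.of k)).inv)) h
  haveI : Algebra.Smooth Γ(X, U) (AdjoinRoot p) := inferInstance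
  haveI : Algebra.Smooth k (AdjoinRoot p) := Algebra.Smooth.comp k Γ(X, U) (AdjoinRoot p)
  haveI : IsRegularRing (AdjoinRoot p) := CohenLib.isRegularRing_of_smooth k (AdjoinRoot p)
  obtain ⟨x', hx'⟩ : ((W₀ : Set X) ∩ U).Nonempty := by
    obtain ⟨z, hz, hz'⟩ := hW₀.inter_open_nonempty (U : Set X) U.isOpen ⟨x.1, x.2⟩
    exact ⟨z, hz', hz⟩
  obtain ⟨g, hgle, hxg⟩ := hU.exists_basicOpen_le (⟨x', hx'.1⟩ : W₀) hx'.2
  haveI : Nonempty (X.basicOpen g) := ⟨⟨x', hxg⟩⟩
  let res : Γ(X, U) →+* Γ(X, X.basicOpen g) := (X.presheaf.map (homOfLE (X.basicOpen_le g)).op).hom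
  have hres : Function.Injective res := map_injective_of_isIntegral X (homOfLE (X.basicOpen_le g))
  have hg0 : g ≠ 0 := fun h => by
    rw [h, Scheme.basicOpen_zero] at hxg
    exact hxg
  let e' : L.val.obj (op (X.basicOpen g)) := L.val.map (homOfLE (X.basicOpen_le g)).op e
  have hGen' : CycCov.IsGen L (X.basicOpen g) e' := isGen_of_genOn (hge.res (X.basicOpen_le g))
  have hc' : SecTwist.val s (X.basicOpen g) = res c • CycCov.lpow L (X.basicOpen g) e' N := by
    have h := congrArg (AmpleLib.res (CohB1.tensorPow L N) (X.basicOpen_le g)) hc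
    rw [show SecTwist.val s (X.basicOpen g) = AmpleLib.res (CohB1.tensorPow L N) (X.basicOpen_le g)
      (SecTwist.val s U) from (SecTwist.map_val s (homOfLE (X.basicOpen_le g))).symm, ← h]
    rw [lpow_eq_pS, lpow_eq_pS]
    erw [AmpleLib.res_smul]
    congr 1
    exact AmpleThLib.pS_res _ _ _
  let p' : Γ(X, X.basicOpen g)[X] := Polynomial.X ^ N - Polynomial.C (res c)
  have hpp' : p.map res = p' := by simp [p, p']
  have hpm' : p'.Monic := monic_X_pow_sub_C _ hN.ne'
  let ρ : AdjoinRoot p →+* AdjoinRoot p' := AdjoinRoot.lift ((AdjoinRoot.of p').comp res) (AdjoinRoot.root p') (by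
    rw [← Polynomial.eval₂_map, hpp']
    exact AdjoinRoot.eval₂_root p')
  have hρmk : ∀ h : Γ(X, U)[X], ρ (AdjoinRoot.mk p h) = AdjoinRoot.mk p' (h.map res) := fun h => by
    rw [AdjoinRoot.lift_mk, ← Polynomial.eval₂_map, ← AdjoinRoot.aeval_eq, aeval_def, AdjoinRoot.algebraMap_eq]
  have hρ : Function.Injective ρ := (injective_iff_map_eq_zero ρ).mpr fun z hz => by
    obtain ⟨h, rfl⟩ := AdjoinRoot.mk_surjective z
    rw [hρmk, AdjoinRoot.mk_eq_zero, ← hpp'] at hz
    rw [AdjoinRoot.mk_eq_zero]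
    exact (Polynomial.map_dvd_map res hres hpm).mp hz
  let ψ' := CycCov.chart R ⟨X.basicOpen g, hU.basicOpen g⟩ e' hGen' (res c) hc'
  let σ : Γ(Y, π ⁻¹ᵁ U) →+* Γ(Y, π ⁻¹ᵁ X.basicOpen g) :=
    (Y.presheaf.map (homOfLE (π.preimage_mono (X.basicOpen_le g))).op).hom
  have hσ0 : ∀ a : Γ(X, U), σ (π.app U a) = π.app (X.basicOpen g) (res a) := fun a =>
    (ConcreteCategory.congr_hom (π.naturality (homOfLE (X.basicOpen_le g)).op) a).symm
  have hcomm : ∀ z, σ (ψ z) = ψ' (ρ z) := by
    intro z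
    have hh : σ.comp ψ = ψ'.comp ρ := by
      refine AdjoinRoot.ringHom_ext (RingHom.ext fun a => ?_) ?_
      · have h1 : ψ (AdjoinRoot.of p a) = π.app U a := AdjoinRoot.lift_of _
        have h2 : ρ (AdjoinRoot.of p a) = AdjoinRoot.of p' (res a) := AdjoinRoot.lift_of _
        have h3 : ψ' (AdjoinRoot.of p' (res a)) = π.app (X.basicOpen g) (res a) := AdjoinRoot.lift_of _
        show σ (ψ (AdjoinRoot.of p a)) = ψ' (ρ (AdjoinRoot.of p a))
        rw [h1, h2, h3]
        exact hσ0 a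
      · have h1 : ψ (AdjoinRoot.root p) = R.t ⟨U, hU⟩ e hGen := AdjoinRoot.lift_root _
        have h2 : ρ (AdjoinRoot.root p) = AdjoinRoot.root p' := AdjoinRoot.lift_root _
        have h3 : ψ' (AdjoinRoot.root p') = R.t ⟨X.basicOpen g, hU.basicOpen g⟩ e' hGen' := AdjoinRoot.lift_root _
        show σ (ψ (AdjoinRoot.root p)) = ψ' (ρ (AdjoinRoot.root p))
        rw [h1, h2, h3]
        exact R.t_res ⟨U, hU⟩ ⟨X.basicOpen g, hU.basicOpen g⟩ (X.basicOpen_le g) e hGen hGen'
    exact congrArg (fun φ => φ z) hh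
  have hψof : ∀ a : Γ(X, U), ψ (AdjoinRoot.of p a) = π.app U a := fun a => by
    simp only [ψ, CycCov.chart]
    exact AdjoinRoot.lift_of _
  haveI hUloc := hU.isLocalization_basicOpen g
  have hsurj : ∀ z : AdjoinRoot p', ∃ (n : ℕ) (a : AdjoinRoot p), ρ a = ρ (AdjoinRoot.of p g) ^ n * z := by
    intro z
    obtain ⟨h, rfl⟩ := AdjoinRoot.mk_surjective z
    have hρg : ρ (AdjoinRoot.of p g) = AdjoinRoot.of p' (res g) := AdjoinRoot.lift_of _
    induction h using Polynomial.induction_on' with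
    | add h₁ h₂ ih₁ ih₂ =>
      obtain ⟨n₁, a₁, ha₁⟩ := ih₁
      obtain ⟨n₂, a₂, ha₂⟩ := ih₂
      refine ⟨n₁ + n₂, AdjoinRoot.of p g ^ n₂ * a₁ + AdjoinRoot.of p g ^ n₁ * a₂, ?_⟩
      rw [map_add ρ, map_mul, map_mul, ha₁, ha₂, map_pow, map_pow, map_add (AdjoinRoot.mk p'), pow_add]
      ring
    | monomial i a =>
      obtain ⟨⟨b, ⟨_, n, rfl⟩⟩, hb⟩ := IsLocalization.surj (Submonoid.powers g) a
      refine ⟨n, AdjoinRoot.mk p (monomial i b), ?_⟩
      rw [hρmk, Polynomial.map_monomial, hρg, ← map_pow, ← AdjoinRoot.mk_C, ← map_mul, C_mul_monomial]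
      congr 2
      rw [mul_comm, ← map_pow]
      exact hb.symm
  have hbad := hbad0 g hg0
  have hσ : ∀ b : Γ(Y, π ⁻¹ᵁ U), σ b = 0 → b = 0 := by
    intro b hb
    have hpU : IsAffineOpen (π ⁻¹ᵁ U) := hU.preimage π
    have hD : Y.basicOpen (π.app U g) = π ⁻¹ᵁ X.basicOpen g := (Scheme.preimage_basicOpen π g).symm
    haveI := hpU.isLocalization_basicOpen (π.app U g)
    have h0 : algebraMap Γ(Y, π ⁻¹ᵁ U) Γ(Y, Y.basicOpen (π.app U g)) b = 0 := by
      have h1 := congrArg (Y.presheaf.map (eqToHom hD).op) hb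
      rw [map_zero] at h1
      refine Eq.trans ?_ h1
      show _ = (Y.presheaf.map _ ≫ Y.presheaf.map _) b
      rw [← Functor.map_comp]
      rfl
    obtain ⟨⟨_, n, rfl⟩, hn⟩ := (IsLocalization.map_eq_zero_iff (Submonoid.powers (π.app U g)) _ b).mp h0
    have hpow : ∀ (m : ℕ) (b : Γ(Y, π ⁻¹ᵁ U)), (π.app U g) ^ m * b = 0 → b = 0 := fun m => by
      induction m with
      | zero => intro b hb; simpa using hb
      | succ m ih => intro b hb; exact hbad _ (ih _ (by rw [← mul_assoc, ← pow_succ]; exact hb))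
    exact hpow n b hn
  have hint : ψ.IsIntegral := by
    have h2 : (π.app U).hom = ψ.comp (AdjoinRoot.of p) := RingHom.ext fun a => (hψof a).symm
    have h := π.isIntegral_app U hU
    rw [h2] at h
    exact RingHom.IsIntegral.tower_top _ _ h
  have hbij : Function.Bijective ψ :=
    bijective_of_localization ψ ψ' ρ σ hcomm (AdjoinRoot.of p g)
      (hchart ⟨X.basicOpen g, hU.basicOpen g⟩ hgle e' hGen' (res c) hc')
      hρ hsurj (fun b hb => hbad b (by rwa [hψof] at hb)) hσ hint fun P hP => by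
        haveI := (isRegularRing_iff.1 (inferInstance : IsRegularRing (AdjoinRoot p))) P
        exact ⟨CommAlgDim.isDomain_of_isRegularLocalRing _, NormalLib.isIntegrallyClosed_of_isRegularLocalRing _⟩
  exact hbij

end CycStrLib
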