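import Groth.Prelude.Def_LogNCD
import Groth.Agent.CohenLib.RegularField
import Mathlib

/-!
# Coordinate hyperplanes of an etale chart
-/

set_option autoImplicit false
set_option backward.isDefEq.respectTransparency false
set_option linter.style.haveILetI false

universe u

open CategoryTheory CategoryTheory.Limits AlgebraicGeometry TopologicalSpace Opposite
open scoped TensorProduct

noncomputable section

namespace CycStrLib

theorem isRegularRing_quotient_X {k : Type u} [Field k] {σ : Type u} [Finite σ] (i : σ) :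
    IsRegularRing (MvPolynomial σ k ⧸ Ideal.span ({MvPolynomial.X i} : Set (MvPolynomial σ k))) := by
  classical
  let I := Ideal.span ({MvPolynomial.X i} : Set (MvPolynomial σ k))
  let f₀ : MvPolynomial σ k →ₐ[k] MvPolynomial {j // j ≠ i} k :=
    MvPolynomial.aeval fun j => if h : j = i then 0 else MvPolynomial.X ⟨j, h⟩
  let f : (MvPolynomial σ k ⧸ I) →ₐ[k] MvPolynomial {j // j ≠ i} k := Ideal.Quotient.liftₐ I f₀ (by
    intro a ha
    obtain ⟨b, rfl⟩ := Ideal.mem_span_singleton.1 ha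
    simp [f₀])
  let g : MvPolynomial {j // j ≠ i} k →ₐ[k] (MvPolynomial σ k ⧸ I) :=
    MvPolynomial.aeval fun j => Ideal.Quotient.mkₐ k I (MvPolynomial.X j.1)
  have h1 : f.comp g = AlgHom.id k _ := MvPolynomial.algHom_ext fun j => by
    simp [f, g, f₀, dif_neg j.2]
  have h2 : g.comp f = AlgHom.id k _ := Ideal.Quotient.algHom_ext k (MvPolynomial.algHom_ext fun j => by
    by_cases h : j = i
    · subst h
      have : Ideal.Quotient.mk I (MvPolynomial.X j) = 0 :=
        Ideal.Quotient.eq_zero_iff_mem.2 (Ideal.mem_span_singleton_self _)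
      simp [f, g, f₀, this]
    · simp [f, g, f₀, dif_neg h])
  haveI : Algebra.Smooth k (MvPolynomial {j // j ≠ i} k) := ⟨inferInstance, inferInstance⟩
  haveI : IsRegularRing (MvPolynomial {j // j ≠ i} k) := CohenLib.isRegularRing_of_smooth k _
  exact IsRegularRing.of_ringEquiv (AlgEquiv.ofAlgHom f g h1 h2).symm.toRingEquiv

/-- The coordinates of an etale chart cut out regular hypersurfaces. -/
theorem coord_props {k : Type u} [Field k] {X : Scheme.{u}} (f : X ⟶ Spec (CommRingCat.of k)) (W : X.Opens) (n : ℕ)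
    (v : ULift.{u} (Fin n) → Γ(W, ⊤)) [Etale (AffineSpace.homOfVector (W.ι ≫ f) v)]
    (U : X.Opens) (hU : IsAffineOpen U) [Nonempty U] (h : U ≤ W) (i : ULift.{u} (Fin n)) :
    IsRegularRing (Γ(X, U) ⧸ Ideal.span ({LogNCD.sectOn W h (v i)} : Set Γ(X, U))) ∧
      LogNCD.sectOn W h (v i) ≠ 0 := by
  haveI : IsAffine (U : Scheme) := hU
  let g : (U : Scheme) ⟶ Spec (CommRingCat.of (MvPolynomial (ULift.{u} (Fin n)) k)) :=
    X.homOfLE h ≫ AffineSpace.homOfVector (W.ι ≫ f) v ≫ (AffineSpace.SpecIso (ULift.{u} (Fin n)) (CommRingCat.of k)).hom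
  haveI : Etale g := inferInstance
  let φ : MvPolynomial (ULift.{u} (Fin n)) k →+* Γ(X, U) :=
    ((Scheme.ΓSpecIso (CommRingCat.of (MvPolynomial (ULift.{u} (Fin n)) k))).inv ≫ g.appTop ≫ U.topIso.hom).hom
  have hφ : φ.Etale := by
    have h1 : g.appTop.hom.Etale := HasRingHomProperty.appTop @Etale g inferInstance
    simp only [φ, CommRingCat.hom_comp]
    exact RingHom.Etale.respectsIso.2 _ (Scheme.ΓSpecIso _).symm.commRingCatIsoToRingEquiv
      (RingHom.Etale.respectsIso.1 g.appTop.hom U.topIso.commRingCatIsoToRingEquiv h1)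
  have hc : (AffineSpace.SpecIso (ULift.{u} (Fin n)) (CommRingCat.of k)).hom.appTop
      ((Scheme.ΓSpecIso (CommRingCat.of (MvPolynomial (ULift.{u} (Fin n)) k))).inv (MvPolynomial.X i)) =
      AffineSpace.coord (Spec (CommRingCat.of k)) i := by
    rw [← AffineSpace.SpecIso_inv_appTop_coord (n := ULift.{u} (Fin n)) (CommRingCat.of k) i]
    exact (ConcreteCategory.congr_hom (Scheme.Hom.comp_appTop (AffineSpace.SpecIso (ULift.{u} (Fin n)) (CommRingCat.of k)).hom
      (AffineSpace.SpecIso (ULift.{u} (Fin n)) (CommRingCat.of k)).inv) _).symm.trans (by rw [Iso.hom_inv_id]; rfl)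
  have hX : φ (MvPolynomial.X i) = LogNCD.sectOn W h (v i) := by
    show U.topIso.hom ((X.homOfLE h).appTop ((AffineSpace.homOfVector (W.ι ≫ f) v).appTop
      ((AffineSpace.SpecIso (ULift.{u} (Fin n)) (CommRingCat.of k)).hom.appTop _))) = _
    erw [hc]
    rw [AffineSpace.homOfVector_appTop_coord, Scheme.homOfLE_appTop, LogNCD.sectOn_apply]
    show (X.presheaf.map _ ≫ X.presheaf.map _) (v i) = (X.presheaf.map _ ≫ X.presheaf.map _) (v i)
    rw [← Functor.map_comp, ← Functor.map_comp]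
    rfl
  letI := φ.toAlgebra
  haveI : Algebra.Etale (MvPolynomial (ULift.{u} (Fin n)) k) Γ(X, U) := hφ
  let I := Ideal.span ({MvPolynomial.X i} : Set (MvPolynomial (ULift.{u} (Fin n)) k))
  haveI : IsRegularRing (MvPolynomial (ULift.{u} (Fin n)) k ⧸ I) := isRegularRing_quotient_X i
  haveI : IsRegularRing ((MvPolynomial (ULift.{u} (Fin n)) k ⧸ I) ⊗[MvPolynomial (ULift.{u} (Fin n)) k] Γ(X, U)) :=
    CohenLib.isRegularRing_of_smooth (MvPolynomial (ULift.{u} (Fin n)) k ⧸ I) _
  let E := ((Algebra.TensorProduct.quotIdealMapEquivTensorQuot Γ(X, U) I).toRingEquiv.trans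
    (Algebra.TensorProduct.comm _ _ _).toRingEquiv).symm
  have hmap : I.map (algebraMap _ Γ(X, U)) = Ideal.span {LogNCD.sectOn W h (v i)} := by
    rw [Ideal.map_span, Set.image_singleton, RingHom.algebraMap_toAlgebra, hX]
  refine ⟨IsRegularRing.of_ringEquiv
    (R := (MvPolynomial (ULift.{u} (Fin n)) k ⧸ I) ⊗[MvPolynomial (ULift.{u} (Fin n)) k] Γ(X, U))
    (E.trans (Ideal.quotEquivOfEq hmap) : _), fun h0 => ?_⟩
  haveI : Module.Flat (MvPolynomial (ULift.{u} (Fin n)) k) Γ(X, U) := inferInstance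
  have hreg : IsSMulRegular Γ(X, U) (MvPolynomial.X i : MvPolynomial (ULift.{u} (Fin n)) k) :=
    IsSMulRegular.of_flat fun a b hab => mul_left_cancel₀ (MvPolynomial.X_ne_zero i) hab
  refine one_ne_zero (α := Γ(X, U)) (hreg ?_)
  simp only [Algebra.smul_def, RingHom.algebraMap_toAlgebra, hX, h0, zero_mul]

end CycStrLib
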