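import Groth.Agent.CycStrLib.Cover
import Groth.Agent.CycStrLib.Coord
import Groth.Agent.FlatLib.SmoothSource
import Groth.Agent.ChevLib.Basic

/-!
# Consequences for the normalised cyclic cover
-/

set_option autoImplicit false
set_option backward.isDefEq.respectTransparency false
set_option linter.style.haveILetI false
set_option maxHeartbeats 1000000

universe u

open CategoryTheory CategoryTheory.Limits AlgebraicGeometry TopologicalSpace Opposite CycEtaleLib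

noncomputable section

namespace CycStrLib

variable {X Y : Scheme.{u}}

theorem ideal_top_of_disjoint (D : X.IdealSheafData) {U : X.Opens} (hU : IsAffineOpen U)
    (h : ∀ x ∈ U, x ∉ D.support) : D.ideal ⟨U, hU⟩ = ⊤ := by
  by_contra hne
  obtain ⟨P, hP, hle⟩ := Ideal.exists_le_maximal _ hne
  let q : PrimeSpectrum Γ(X, U) := ⟨P, hP.isPrime⟩
  have hq : hU.fromSpec q ∈ U := by
    show hU.fromSpec q ∈ (U : Set X)
    rw [← hU.range_fromSpec]; exact ⟨q, rfl⟩
  refine h _ hq ?_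
  have h2 : hU.fromSpec q ∈ hU.fromSpec '' PrimeSpectrum.zeroLocus (R := Γ(X, U)) (D.ideal ⟨U, hU⟩) :=
    ⟨q, hle, rfl⟩
  rw [hU.fromSpec_image_zeroLocus] at h2
  exact ((Scheme.IdealSheafData.coe_support_inter D ⟨U, hU⟩).ge h2).1

theorem ideal_prod {ι : Type*} (S : Finset ι) (D : ι → X.IdealSheafData) (U : X.affineOpens) :
    (∏ j ∈ S, D j).ideal U = ∏ j ∈ S, (D j).ideal U := by
  classical
  induction S using Finset.induction_on with
  | empty => rw [Finset.prod_empty, Finset.prod_empty, Ideal.one_eq_top]; rfl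
  | insert a S ha ih => rw [Finset.prod_insert ha, Finset.prod_insert ha, Scheme.IdealSheafData.ideal_mul, Pi.mul_apply, ih]

/-- A neighbourhood with a frame, in which at most one of the relevant components is non-trivial, cut out by a
coordinate. -/
theorem exists_local {k : Type u} [Field k] (f : X ⟶ Spec (CommRingCat.of k)) [Smooth f] [IsIntegral X]
    (L : X.Modules) (hL : PicF.IsInvertible L) {r : ℕ} (D : Fin r → X.IdealSheafData) (α : Fin r → ℕ)
    (hD : LogNCD.IsNCD D f) (P : Fin r → Prop) (hP : ∀ j, ¬ P j → α j = 0) (W : X.Opens) (x : X) (hx : x ∈ W)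
    (huniq : ∀ j j' : Fin r, P j → P j' → x ∈ (D j).support → x ∈ (D j').support → j = j') :
    ∃ (U : X.Opens) (hU : IsAffineOpen U) (_ : x ∈ U) (_ : U ≤ W) (e : Γ(L, U)) (_ : AmpleLib.GenOn L e)
      (f₁ : Γ(X, U)) (α₁ : ℕ), f₁ ≠ 0 ∧ IsRegularRing (Γ(X, U) ⧸ Ideal.span ({f₁} : Set Γ(X, U))) ∧
      (CycCov.divIdeal D α).ideal ⟨U, hU⟩ = Ideal.span {f₁ ^ α₁} ∧
      ∀ j, P j → ((D j).ideal ⟨U, hU⟩ = Ideal.span {f₁} ∧ α j = α₁) ∨ (D j).ideal ⟨U, hU⟩ = ⊤ := by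
  classical
  obtain ⟨T, e₀, hxT, he₀⟩ := TwistLib.exists_genOn hL x
  -- the open avoiding the other components
  let O : X.Opens := ⟨(⋃ j ∈ (Finset.univ.filter fun j => P j ∧ x ∉ (D j).support), ((D j).support : Set X))ᶜ,
    (Set.Finite.isClosed_biUnion (Finset.finite_toSet _) fun j _ => (D j).support.isClosed).isOpen_compl⟩
  have hxO : x ∈ O := fun h => by
    obtain ⟨j, hj, hxj⟩ := Set.mem_iUnion₂.1 h
    exact (Finset.mem_filter.1 hj).2.2 hxj
  have hO : ∀ j, P j → x ∉ (D j).support → ∀ y ∈ O, y ∉ (D j).support := fun j hPj hxj y hy hyj =>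
    hy (Set.mem_iUnion₂.2 ⟨j, Finset.mem_filter.2 ⟨Finset.mem_univ _, hPj, hxj⟩, hyj⟩)
  by_cases hex : ∃ j₀, P j₀ ∧ x ∈ (D j₀).support
  · obtain ⟨j₀, hPj₀, hxj₀⟩ := hex
    obtain ⟨W', hxW', n, v, ec, -, hv, hDv, -⟩ := hD x ⟨⟨j₀, hxj₀⟩⟩
    obtain ⟨U, hU, hxU, hUle⟩ := exists_isAffineOpen_mem_and_subset (U := W ⊓ T ⊓ O ⊓ W') (x := x) ⟨⟨⟨hx, hxT⟩, hxO⟩, hxW'⟩
    replace hUle : U ≤ W ⊓ T ⊓ O ⊓ W' := hUle
    have hUW' : U ≤ W' := hUle.trans inf_le_right
    haveI : Nonempty U := ⟨⟨x, hxU⟩⟩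
    haveI := hv
    let i := ULift.up (ec ⟨j₀, hxj₀⟩)
    obtain ⟨hreg, hne⟩ := coord_props f W' n v U hU hUW' i
    have hj₀ : (D j₀).ideal ⟨U, hU⟩ = Ideal.span {LogNCD.sectOn W' hUW' (v i)} := hDv ⟨j₀, hxj₀⟩ ⟨U, hU⟩ hUW'
    have hj : ∀ j, P j → j ≠ j₀ → (D j).ideal ⟨U, hU⟩ = ⊤ := fun j hPj hne' =>
      ideal_top_of_disjoint _ hU fun y hy => hO j hPj (fun h => hne' (huniq j j₀ hPj hPj₀ h hxj₀)) y
        ((hUle hy).1.2)
    refine ⟨U, hU, hxU, hUle.trans (inf_le_left.trans (inf_le_left.trans inf_le_left)),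
      AmpleLib.res L (hUle.trans (inf_le_left.trans (inf_le_left.trans inf_le_right))) e₀, he₀.res _,
      LogNCD.sectOn W' hUW' (v i), α j₀, hne, hreg, ?_, fun j hPj => ?_⟩
    · rw [CycCov.divIdeal, ideal_prod, Finset.prod_eq_single j₀]
      · rw [Scheme.IdealSheafData.ideal_pow, Pi.pow_apply, hj₀, Ideal.span_singleton_pow]
      · intro j _ hjne
        rw [Scheme.IdealSheafData.ideal_pow, Pi.pow_apply]
        by_cases hPj : P j
        · rw [hj j hPj hjne, ← Ideal.one_eq_top, one_pow]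
        · rw [hP j hPj, pow_zero]
      · exact fun h => absurd (Finset.mem_univ _) h
    · by_cases h : j = j₀
      · subst h; exact Or.inl ⟨hj₀, rfl⟩
      · exact Or.inr (hj j hPj h)
  · obtain ⟨U, hU, hxU, hUle⟩ := exists_isAffineOpen_mem_and_subset (U := W ⊓ T ⊓ O) (x := x) ⟨⟨hx, hxT⟩, hxO⟩
    replace hUle : U ≤ W ⊓ T ⊓ O := hUle
    haveI : Nonempty U := ⟨⟨x, hxU⟩⟩
    have hj : ∀ j, P j → (D j).ideal ⟨U, hU⟩ = ⊤ := fun j hPj =>
      ideal_top_of_disjoint _ hU fun y hy => hO j hPj (fun h => hex ⟨j, hPj, h⟩) y ((hUle hy).2)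
    refine ⟨U, hU, hxU, hUle.trans (inf_le_left.trans inf_le_left),
      AmpleLib.res L (hUle.trans (inf_le_left.trans inf_le_right)) e₀, he₀.res _, 1, 0, one_ne_zero, ?_, ?_,
      fun j hPj => Or.inr (hj j hPj)⟩
    · haveI : Subsingleton (Γ(X, U) ⧸ Ideal.span ({1} : Set Γ(X, U))) :=
        Ideal.Quotient.subsingleton_iff.2 Ideal.span_singleton_one
      exact isRegularRing_iff.2 fun P hP => absurd (Subsingleton.elim P ⊤) hP.ne_top
    · rw [CycCov.divIdeal, ideal_prod, pow_zero, Ideal.span_singleton_one, ← Ideal.one_eq_top]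
      refine Finset.prod_eq_one fun j _ => ?_
      rw [Scheme.IdealSheafData.ideal_pow, Pi.pow_apply]
      by_cases hPj : P j
      · rw [hj j hPj, ← Ideal.one_eq_top, one_pow]
      · rw [hP j hPj, pow_zero]

/-- Ideals agree on an affine open if they do on an affine cover of it. -/
theorem ideal_eq_of_cover {I J : Y.IdealSheafData} (V : Y.affineOpens)
    (h : ∀ y ∈ V.1, ∃ T : Y.affineOpens, y ∈ T.1 ∧ I.ideal T = J.ideal T) : I.ideal V = J.ideal V := by
  have : ∀ x : V.1, ∃ r : Γ(Y, V.1), x.1 ∈ Y.basicOpen r ∧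
      I.ideal ⟨Y.basicOpen r, V.2.basicOpen r⟩ = J.ideal ⟨Y.basicOpen r, V.2.basicOpen r⟩ := fun x => by
    obtain ⟨T, hxT, hT⟩ := h x.1 x.2
    obtain ⟨r, r', e, hxr⟩ := exists_basicOpen_le_affine_inter V.2 T.2 x.1 ⟨x.2, hxT⟩
    refine ⟨r, hxr, ?_⟩
    have hle : Y.basicOpen r ≤ T.1 := e.le.trans (Y.basicOpen_le r')
    rw [← I.map_ideal' (U := ⟨Y.basicOpen r, V.2.basicOpen r⟩) (V := T) (homOfLE hle).op, hT]
    exact J.map_ideal' (U := ⟨Y.basicOpen r, V.2.basicOpen r⟩) (V := T) (homOfLE hle).op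
  choose r hr hreq using this
  have hsp : Ideal.span (Set.range r) = ⊤ := by
    rw [← V.2.self_le_iSup_basicOpen_iff]
    exact fun y hy => Opens.mem_iSup.mpr ⟨⟨_, _, rfl⟩, hr ⟨y, hy⟩⟩
  have inst := V.2.isLocalization_basicOpen
  refine le_antisymm ?_ ?_
  all_goals
    refine Submodule.le_of_isLocalized_span _ hsp (fun i ↦ Γ(Y, Y.basicOpen i.1))
      (fun i ↦ Algebra.linearMap Γ(Y, V.1) Γ(Y, Y.basicOpen i.1)) ?_
    rintro ⟨_, j, rfl⟩
    simp only [← Submodule.restrictScalars_localized' Γ(Y, Y.basicOpen (r j)), Submodule.restrictScalars_le,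
      Ideal.localized'_eq_map, RingHom.algebraMap_toAlgebra]
    erw [I.map_ideal_basicOpen V (r j), J.map_ideal_basicOpen V (r j)]
  · exact (hreq j).le
  · exact (hreq j).ge

variable {k : Type u} [Field k] [IsAlgClosed k] (f : X ⟶ Spec (CommRingCat.of k)) [Smooth f] [IsIntegral X]
  {L : X.Modules} (hL : PicF.IsInvertible L) {N : ℕ} (hN : 0 < N) (hNk : (N : k) ≠ 0)
  {r : ℕ} {D : Fin r → X.IdealSheafData} {α : Fin r → ℕ} (hD : LogNCD.IsNCD D f)
  {s : Coh.structureModule X ⟶ CohB1.tensorPow L N} (hs : CycCov.IsZeroDiv (CohB1.tensorPow L N) s (CycCov.divIdeal D α))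
  {π : Y ⟶ X} {R : CycCov.Root L N s π} (hR : CycCov.IsCover R) (W : X.Opens)
include hL hN hNk hD hs hR

/-- The cover is smooth over points lying on at most one branch component. -/
theorem smooth_preimage
    (hW : ∀ x ∈ W, ∀ j j' : Fin r, 0 < α j → 0 < α j' → x ∈ (D j).support → x ∈ (D j').support → j = j') :
    Smooth ((π ⁻¹ᵁ W).ι ≫ π ≫ f) := by
  classical
  haveI : IsFinite π := hR.1
  have hloc : ∀ x ∈ W, ∃ U : X.Opens, x ∈ U ∧ U ≤ W ∧ Smooth ((π ⁻¹ᵁ U).ι ≫ π ≫ f) := by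
    intro x hx
    obtain ⟨U, hU, hxU, hUW, e, hge, f₁, α₁, hf₁, hreg, hI, -⟩ := exists_local f L hL D α hD (fun j => 0 < α j)
      (fun j hj => Nat.le_zero.1 (not_lt.1 hj)) W x hx (hW x hx)
    haveI : Nonempty U := ⟨⟨x, hxU⟩⟩
    refine ⟨U, hxU, hUW, ?_⟩
    haveI := (preimage_props f L N hN hNk (CycCov.divIdeal D α) s hs π R hR U hU e hge f₁ hf₁ α₁ hI hreg).1
    let V : Y.Opens := π ⁻¹ᵁ U
    have hV : IsAffineOpen V := hU.preimage π
    haveI : IsAffine (V : Scheme) := hV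
    let φ : k →+* Γ(Y, V) := ((Scheme.ΓSpecIso (CommRingCat.of k)).inv ≫ (π ≫ f).appLE ⊤ V le_top).hom
    letI := φ.toAlgebra
    have hbij : Function.Bijective (Scheme.ΓSpecIso (CommRingCat.of k)).inv.hom :=
      ConcreteCategory.bijective_of_isIso _
    haveI : Algebra.FiniteType k Γ(Y, V) := by
      rw [← RingHom.finiteType_algebraMap]
      exact (LocallyOfFiniteType.finiteType_appLE (π ≫ f) (isAffineOpen_top _) hV le_top).comp
        (RingHom.FiniteType.of_surjective _ hbij.2)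
    haveI : Algebra.Smooth k Γ(Y, V) := FlatLib.smooth_of_isRegularRing_of_perfectField k _
    have hsm : ((π ≫ f).appLE ⊤ V le_top).hom.Smooth := by
      have h : φ.Smooth := RingHom.smooth_algebraMap.2 inferInstance
      have := RingHom.Smooth.respectsIso.2 φ (Scheme.ΓSpecIso (CommRingCat.of k)).commRingCatIsoToRingEquiv h
      refine (congrArg RingHom.Smooth (RingHom.ext fun a => ?_)).mp this
      show (π ≫ f).appLE ⊤ V le_top ((Scheme.ΓSpecIso (CommRingCat.of k)).inv ((Scheme.ΓSpecIso (CommRingCat.of k)).hom a)) = _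
      exact congrArg _ (ConcreteCategory.congr_hom (Scheme.ΓSpecIso (CommRingCat.of k)).hom_inv_id a)
    rw [HasRingHomProperty.iff_of_isAffine (P := @Smooth)]
    have hfac : (V.ι ≫ π ≫ f).appTop = (π ≫ f).appLE ⊤ V le_top ≫ V.topIso.inv := by
      rw [Scheme.Hom.comp_appTop, Scheme.Opens.ι_appTop, Scheme.Hom.appLE, Category.assoc]
      congr 1
      show _ = Y.presheaf.map _ ≫ Y.presheaf.map _
      rw [← Functor.map_comp]
      rfl
    rw [hfac, CommRingCat.hom_comp]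
    exact RingHom.Smooth.respectsIso.1 _ V.topIso.symm.commRingCatIsoToRingEquiv hsm
  let O : Y.Opens := π ⁻¹ᵁ W
  choose U hxU hUW hUs using hloc
  refine IsZariskiLocalAtSource.of_iSup_eq_top (P := @Smooth)
    (fun p : O => O.ι ⁻¹ᵁ (π ⁻¹ᵁ U (π p.1) p.2)) (eq_top_iff.2 fun p _ => Opens.mem_iSup.2 ⟨p, hxU (π p.1) p.2⟩) fun p => ?_
  let T := O.ι ⁻¹ᵁ (π ⁻¹ᵁ U (π p.1) p.2)
  have hrange : Set.range (T.ι ≫ O.ι) = Set.range (π ⁻¹ᵁ U (π p.1) p.2).ι := by
    rw [Scheme.Hom.comp_base, TopCat.coe_comp, Set.range_comp, Scheme.Opens.range_ι, Scheme.Opens.range_ι]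
    show O.ι '' (O.ι ⁻¹' ((π ⁻¹ᵁ U (π p.1) p.2 : Y.Opens) : Set Y)) = _
    rw [Set.image_preimage_eq_inter_range, Scheme.Opens.range_ι, Set.inter_eq_left]
    exact π.preimage_mono (hUW _ _)
  show Smooth (T.ι ≫ O.ι ≫ π ≫ f)
  rw [← Category.assoc, ← IsOpenImmersion.isoOfRangeEq_hom_fac (T.ι ≫ O.ι) _ hrange, Category.assoc,
    MorphismProperty.cancel_left_of_respectsIso (P := @Smooth)]
  exact hUs _ _

/-- Pull-back of the components over points lying on at most one component. -/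
theorem comap_ideal_props
    (hW : ∀ x ∈ W, ∀ j j' : Fin r, x ∈ (D j).support → x ∈ (D j').support → j = j')
    (V : Y.affineOpens) (hV : V.1 ≤ π ⁻¹ᵁ W) (j : Fin r) :
    ((D j).comap π).ideal V = (((D j).comap π).radical ^ (N / Nat.gcd N (α j))).ideal V ∧
      ((CycCov.divIdeal D α).comap π).ideal V =
        (∏ j : Fin r, ((D j).comap π).radical ^ (N * α j / Nat.gcd N (α j))).ideal V := by
  classical
  haveI : IsFinite π := hR.1
  have key : ∀ x ∈ W, ∃ T : Y.affineOpens, π ⁻¹' {x} ⊆ (T.1 : Set Y) ∧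
      ((D j).comap π).ideal T = (((D j).comap π).radical ^ (N / Nat.gcd N (α j))).ideal T ∧
      ((CycCov.divIdeal D α).comap π).ideal T =
        (∏ j : Fin r, ((D j).comap π).radical ^ (N * α j / Nat.gcd N (α j))).ideal T := by
    intro x hx
    obtain ⟨U, hU, hxU, hUW, e, hge, f₁, α₁, hf₁, hreg, hI, hj⟩ := exists_local f L hL D α hD (fun _ => True)
      (fun j hj => absurd trivial hj) W x hx (fun a b _ _ => hW x hx a b)
    haveI : Nonempty U := ⟨⟨x, hxU⟩⟩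
    obtain ⟨-, q, hq1, hq2⟩ := preimage_props f L N hN hNk (CycCov.divIdeal D α) s hs π R hR U hU e hge f₁ hf₁ α₁ hI hreg
    refine ⟨⟨π ⁻¹ᵁ U, hU.preimage π⟩, fun y (hy : π y = x) => show π y ∈ U from hy ▸ hxU, ?_⟩
    have hcm : ∀ i, ((D i).comap π).ideal ⟨π ⁻¹ᵁ U, hU.preimage π⟩ = ((D i).ideal ⟨U, hU⟩).map (π.app U).hom :=
      fun i => ChevLib.ideal_comap_of_isAffineHom (D i) π ⟨U, hU⟩
    have hdvd : Nat.gcd N α₁ ∣ N := Nat.gcd_dvd_left _ _
    have hone : ∀ i, α i = α₁ → (D i).ideal ⟨U, hU⟩ = Ideal.span {f₁} →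
        (((D i).comap π).ideal ⟨π ⁻¹ᵁ U, hU.preimage π⟩ = Ideal.span {q} ^ (N / Nat.gcd N α₁) ∧
          (((D i).comap π).radical).ideal ⟨π ⁻¹ᵁ U, hU.preimage π⟩ = Ideal.span {q}) := by
      intro i _ hi
      have h1 : ((D i).comap π).ideal ⟨π ⁻¹ᵁ U, hU.preimage π⟩ = Ideal.span {q} ^ (N / Nat.gcd N α₁) := by
        rw [hcm, hi, Ideal.map_span, Set.image_singleton, hq2]
      refine ⟨h1, ?_⟩
      rw [Scheme.IdealSheafData.radical_ideal]
      show Ideal.radical _ = _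
      rw [h1, Ideal.radical_pow _ (Nat.div_ne_zero_iff.2 ⟨(Nat.gcd_pos_of_pos_left _ hN).ne', Nat.gcd_le_left _ hN⟩), hq1]
    have htop : ∀ i, (D i).ideal ⟨U, hU⟩ = ⊤ →
        (((D i).comap π).ideal ⟨π ⁻¹ᵁ U, hU.preimage π⟩ = 1 ∧
          (((D i).comap π).radical).ideal ⟨π ⁻¹ᵁ U, hU.preimage π⟩ = 1) := by
      intro i hi
      have h1 : ((D i).comap π).ideal ⟨π ⁻¹ᵁ U, hU.preimage π⟩ = ⊤ := by rw [hcm, hi, Ideal.map_top]
      refine ⟨h1.trans Ideal.one_eq_top.symm, ?_⟩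
      rw [Scheme.IdealSheafData.radical_ideal, Ideal.one_eq_top]
      show Ideal.radical _ = _
      rw [h1, Ideal.radical_top]
    refine ⟨?_, ?_⟩
    · rw [Scheme.IdealSheafData.ideal_pow, Pi.pow_apply]
      rcases hj j trivial with ⟨h1, h2⟩ | h1
      · rw [(hone j h2 h1).1, (hone j h2 h1).2, h2]
      · rw [(htop j h1).1, (htop j h1).2, one_pow]
    · rw [ChevLib.ideal_comap_of_isAffineHom (CycCov.divIdeal D α) π ⟨U, hU⟩, CycCov.divIdeal, ideal_prod, ideal_prod]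
      rw [show ∀ g : Fin r → Ideal Γ(X, U), (∏ i, g i).map (π.app U).hom = ∏ i, (g i).map (π.app U).hom from
        fun g => map_prod (Ideal.mapHom (π.app U).hom) g _]
      refine Finset.prod_congr rfl fun i _ => ?_
      rw [Scheme.IdealSheafData.ideal_pow, Scheme.IdealSheafData.ideal_pow, Pi.pow_apply, Pi.pow_apply, Ideal.map_pow, ← hcm]
      rcases hj i trivial with ⟨h1, h2⟩ | h1
      · rw [(hone i h2 h1).1, (hone i h2 h1).2, h2, ← pow_mul]
        congr 1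
        rw [Nat.mul_comm N α₁, Nat.mul_div_assoc _ hdvd, Nat.mul_comm]
      · rw [(htop i h1).1, (htop i h1).2, one_pow, one_pow]
  constructor
  · refine ideal_eq_of_cover V fun y hy => ?_
    obtain ⟨T, hT, h1, -⟩ := key (π y) (hV hy)
    exact ⟨T, hT rfl, h1⟩
  · refine ideal_eq_of_cover V fun y hy => ?_
    obtain ⟨T, hT, -, h2⟩ := key (π y) (hV hy)
    exact ⟨T, hT rfl, h2⟩

end CycStrLib
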